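import Groth.Agent.ThetaBGLib.Section
import Mathlib.RingTheory.Support
import Mathlib.RingTheory.Nakayama

/-!
# Torsors of the general linear group are Zariski locally trivial
-/

set_option autoImplicit false
set_option linter.all false
set_option backward.isDefEq.respectTransparency false
set_option backward.isDefEq.respectTransparency.types false
set_option maxHeartbeats 1000000

universe u

open CategoryTheory CategoryTheory.Limits MonoidalCategory CartesianMonoidalCategory MonObj AlgebraicGeometry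
open scoped TensorProduct
open Groth.Agent

noncomputable section

attribute [-instance] CategoryTheory.Hom.commGroup

namespace GLnSpecialLib

open ThetaBG TorsVec

/-- A cocycle of matrices is a coboundary away from a function not vanishing at a given prime. -/
theorem exists_near {A B : Type u} [CommRing A] [CommRing B] [Algebra A B] [Module.FaithfullyFlat A B] {n : ℕ}
    (c : Matrix (Fin n) (Fin n) (B ⊗[A] B)) (hu : IsUnit c.det)
    (hc : c.map (ins23 (A := A) (B := B)) * c.map (ins12 (A := A) (B := B)) = c.map (ins13 (A := A) (B := B)))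
    (p : PrimeSpectrum A) :
    ∃ (f : A) (P : Matrix (Fin n) (Fin n) B), f ∉ p.asIdeal ∧ (∃ N : ℕ, P.det ∣ algebraMap A B f ^ N) ∧
      c * P.map (insL (A := A) (B := B)) = P.map (insR (A := A) (B := B)) := by
  classical
  let Φ : B ⊗[A] invV c ≃ₗ[B] (Fin n → B) := LinearEquiv.ofBijective _ (bijective_multV c hu hc)
  haveI : Module.Finite B (B ⊗[A] invV c) := Module.Finite.equiv Φ.symm
  haveI : Module.Finite A (invV c) := Module.Finite.of_finite_tensorProduct_of_faithfullyFlat B
  let κ := p.asIdeal.ResidueField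
  obtain ⟨Q, hQ⟩ := PrimeSpectrum.comap_surjective_of_faithfullyFlat (A := A) (B := B) p
  haveI : Nontrivial B := nontrivial_of_ne (0 : B) 1 fun h => Q.2.ne_top ((Ideal.eq_top_iff_one _).2 (h ▸ zero_mem _))
  let L := Q.asIdeal.ResidueField
  have hQ' : p.asIdeal = Q.asIdeal.comap (algebraMap A B) := by rw [← hQ]; rfl
  letI : Algebra κ L := (Ideal.ResidueField.map p.asIdeal Q.asIdeal (algebraMap A B) hQ').toAlgebra
  haveI : IsScalarTower A κ L := IsScalarTower.of_algebraMap_eq fun a => by
    rw [IsScalarTower.algebraMap_apply A B L]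
    exact (Ideal.ResidueField.map_algebraMap _ _ _ hQ' a).symm
  have hdim : Module.finrank κ (κ ⊗[A] invV c) = n := by
    rw [← Module.finrank_baseChange (R := L) (S := κ) (M' := κ ⊗[A] invV c),
      ((TensorProduct.AlgebraTensorModule.cancelBaseChange A κ L L (invV c)).trans
        ((TensorProduct.AlgebraTensorModule.cancelBaseChange A B L L (invV c)).symm.trans
          (TensorProduct.AlgebraTensorModule.congr (LinearEquiv.refl L L) Φ))).finrank_eq,
      Module.finrank_baseChange, Module.finrank_fin_fun]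
  have htop : Submodule.span κ (Set.range fun m : invV c => (1 : κ) ⊗ₜ[A] m) = ⊤ := by
    refine eq_top_iff.2 fun z _ => ?_
    induction z using TensorProduct.induction_on with
    | zero => exact zero_mem _
    | add x y hx hy => exact add_mem (hx trivial) (hy trivial)
    | tmul a m =>
      rw [show a ⊗ₜ[A] m = a • ((1 : κ) ⊗ₜ[A] m) by rw [TensorProduct.smul_tmul', smul_eq_mul, _root_.mul_one]]
      exact Submodule.smul_mem _ _ (Submodule.subset_span ⟨m, rfl⟩)
  obtain ⟨s, hs, hssp, hli⟩ := exists_linearIndependent κ (Set.range fun m : invV c => (1 : κ) ⊗ₜ[A] m)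
  let bs := Module.Basis.mk hli (by rw [Subtype.range_coe, hssp, htop])
  haveI : Fintype s := FiniteDimensional.fintypeBasisIndex bs
  let e : Fin n ≃ s := (Fintype.equivFinOfCardEq ((Module.finrank_eq_card_basis bs).symm.trans hdim)).symm
  choose v hv using fun i : Fin n => hs (e i).2
  let N := Submodule.span A (Set.range v)
  have hN : p ∉ Module.support A (invV c ⧸ N) := by
    rw [Module.mem_support_iff_nontrivial_residueField_tensorProduct, not_nontrivial_iff_subsingleton]
    have key : ∀ z : κ ⊗[A] invV c, LinearMap.baseChange κ N.mkQ z = 0 := by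
      intro z
      have hz : z ∈ Submodule.span κ (s : Set (κ ⊗[A] invV c)) := by rw [hssp, htop]; trivial
      refine Submodule.span_induction ?_ (map_zero _) (fun x y _ _ hx hy => by rw [map_add, hx, hy, _root_.add_zero])
        (fun a x _ hx => by rw [map_smul, hx, smul_zero]) hz
      intro x hx
      have h := hv (e.symm ⟨x, hx⟩)
      rw [Equiv.apply_symm_apply] at h
      rw [show x = (1 : κ) ⊗ₜ[A] v (e.symm ⟨x, hx⟩) from h.symm, LinearMap.baseChange_tmul,
        Submodule.mkQ_apply, (Submodule.Quotient.mk_eq_zero N).2 (Submodule.subset_span ⟨_, rfl⟩), TensorProduct.tmul_zero]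
    refine subsingleton_of_forall_eq 0 fun w => ?_
    obtain ⟨z, rfl⟩ : ∃ z, LinearMap.baseChange κ N.mkQ z = w :=
      LinearMap.lTensor_surjective κ N.mkQ_surjective w
    exact key z
  rw [Module.support_eq_zeroLocus, PrimeSpectrum.mem_zeroLocus, Set.not_subset] at hN
  obtain ⟨f, hf, hfp⟩ := hN
  have hfN : ∀ m : invV c, f • m ∈ N := fun m => by
    rw [← Submodule.Quotient.mk_eq_zero, Submodule.Quotient.mk_smul]
    exact Module.mem_annihilator.1 hf _
  let P : Matrix (Fin n) (Fin n) B := Matrix.of fun i k => (v k : Fin n → B) i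
  refine ⟨f, P, hfp, ⟨n, ?_⟩, Matrix.ext fun i k => ?_⟩
  · have hmem : ∀ z : B ⊗[A] invV c, algebraMap A B f • z ∈ Submodule.span B (Set.range fun k => (1 : B) ⊗ₜ[A] v k) := by
      intro z
      induction z using TensorProduct.induction_on with
      | zero => rw [smul_zero]; exact zero_mem _
      | add x y hx hy => rw [smul_add]; exact add_mem hx hy
      | tmul b m =>
        rw [algebraMap_smul, ← TensorProduct.tmul_smul]
        obtain ⟨a, ha⟩ := (Submodule.mem_span_range_iff_exists_fun A).1 (hfN m)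
        rw [← ha, TensorProduct.tmul_sum]
        refine Submodule.sum_mem _ fun k _ => ?_
        rw [TensorProduct.tmul_smul, show b ⊗ₜ[A] v k = b • ((1 : B) ⊗ₜ[A] v k) by
          rw [TensorProduct.smul_tmul', smul_eq_mul, _root_.mul_one], ← algebraMap_smul B (a k), smul_smul]
        exact Submodule.smul_mem _ _ (Submodule.subset_span ⟨k, rfl⟩)
    choose q hq using fun i : Fin n => (Submodule.mem_span_range_iff_exists_fun B).1 (hmem (Φ.symm (Pi.single i 1)))
    have hPQ : P * (Matrix.of fun k i => q i k) = algebraMap A B f • 1 := by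
      refine Matrix.ext fun j i => ?_
      have h := congrArg Φ (hq i)
      rw [map_sum, map_smul, Φ.apply_symm_apply] at h
      have h2 := congrFun h j
      simp only [map_smul, Finset.sum_apply, Pi.smul_apply, smul_eq_mul] at h2
      rw [Matrix.mul_apply, Matrix.smul_apply, smul_eq_mul, Matrix.one_apply]
      rw [Pi.single_apply] at h2
      refine Eq.trans (Finset.sum_congr rfl fun k _ => ?_) h2
      rw [show Φ ((1 : B) ⊗ₜ[A] v k) j = P j k by simp [Φ, P, multV], Matrix.of_apply, _root_.mul_comm]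
    refine ⟨(Matrix.of fun k i => q i k).det, ?_⟩
    rw [← Matrix.det_mul, hPQ, Matrix.det_smul, Matrix.det_one, Fintype.card_fin, _root_.mul_one]
  · have h := congrFun (LinearMap.mem_ker.1 (v k).2) i
    rw [twV_apply, Pi.sub_apply, Pi.zero_apply, sub_eq_zero] at h
    simp only [Matrix.mul_apply, Matrix.map_apply, P, Matrix.of_apply]
    exact h.symm

theorem map_mul_eq_one {A C : Type u} [Semiring A] [Semiring C] {n : ℕ} (φ : A →+* C)
    {X Y : Matrix (Fin n) (Fin n) A} (h : X * Y = 1) : X.map φ * Y.map φ = 1 := by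
  rw [← Matrix.map_mul, h, Matrix.map_one _ (map_zero φ) (map_one φ)]

variable {S : Scheme.{u}} {n : ℕ}

/-- A torsor of the general linear group has sections near every point of its base. -/
theorem exists_section_near {X : Over S} {aX : AlgGrp.Action (FrB.GLn n S) X}
    (A : AlgSt.QuotObj Scheme.fpqcPrecoverage (FrB.GLn n S) aX) (y : A.base.left) :
    ∃ (T : Scheme.{u}) (u₀ : T ⟶ A.base.left) (s : T ⟶ A.P.left),
      IsOpenImmersion u₀ ∧ y ∈ Set.range u₀.base ∧ s ≫ A.π.left = u₀ := by
  let X' : Over A.base.left := Over.mk A.π.left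
  obtain ⟨_, ⟨U, hU, rfl⟩, hyU, -⟩ :=
    A.base.left.isBasis_affineOpens.exists_subset_of_mem_open (Set.mem_univ y) isOpen_univ
  replace hU : IsAffineOpen U := hU
  obtain ⟨B, _, _, hB, ⟨p₀⟩⟩ := TorsVec.exists_algebra_point (X := X') A.loc hU
  haveI := hB
  let R := Γ(A.base.left, U)
  let jT := hU.fromSpec
  let j := jT ≫ A.base.hom
  have hp₀ : p₀.left ≫ A.π.left = Spec.map (CommRingCat.ofHom (algebraMap R B)) ≫ jT := Over.w p₀
  let p : TorsVec.testObj j B ⟶ A.P := Over.homMk p₀.left (by
    show p₀.left ≫ A.P.hom = Spec.map _ ≫ jT ≫ A.base.hom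
    rw [← Over.w A.π, ← Category.assoc, hp₀, Category.assoc])
  obtain ⟨g, hg⟩ := ThetaBGa.exists_smul A (TorsVec.testMap j TorsVec.insL ≫ p) (TorsVec.testMap j TorsVec.insR ≫ p)
    (by
      ext1
      simp only [Over.comp_left, Category.assoc]
      show Spec.map _ ≫ p₀.left ≫ A.π.left = Spec.map _ ≫ p₀.left ≫ A.π.left
      simp only [hp₀, ← Spec.map_comp_assoc, ← CommRingCat.ofHom_comp]
      congr 3
      exact (TorsVec.insL (A := R) (B := B)).comp_algebraMap.trans (TorsVec.insR (A := R) (B := B)).comp_algebraMap.symm)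
  have hcoc : (TorsVec.testMap j TorsVec.ins23 ≫ g) * (TorsVec.testMap j TorsVec.ins12 ≫ g) =
      TorsVec.testMap j TorsVec.ins13 ≫ g := by
    refine ThetaBGa.smul_injective A (TorsVec.testMap j (TorsVec.ins13.comp TorsVec.insL) ≫ p) ?_
    have h12 := congrArg (fun z => TorsVec.testMap j (TorsVec.ins12 (A := R) (B := B)) ≫ z) hg
    have h23 := congrArg (fun z => TorsVec.testMap j (TorsVec.ins23 (A := R) (B := B)) ≫ z) hg
    have h13 := congrArg (fun z => TorsVec.testMap j (TorsVec.ins13 (A := R) (B := B)) ≫ z) hg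
    simp only [TorsVec.comp_smulPt, TorsVec.testMap_comp_assoc] at h12 h23 h13
    have e1 : (TorsVec.ins12 (A := R) (B := B)).comp TorsVec.insL =
        (TorsVec.ins13 (A := R) (B := B)).comp TorsVec.insL := by ext b; rfl
    have e2 : (TorsVec.ins12 (A := R) (B := B)).comp TorsVec.insR =
        (TorsVec.ins23 (A := R) (B := B)).comp TorsVec.insL := by ext b; rfl
    have e3 : (TorsVec.ins13 (A := R) (B := B)).comp TorsVec.insR =
        (TorsVec.ins23 (A := R) (B := B)).comp TorsVec.insR := by ext b; rfl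
    change TorsVec.smulPt A.act ((TorsVec.testMap j TorsVec.ins23 ≫ g) * (TorsVec.testMap j TorsVec.ins12 ≫ g)) _ =
      TorsVec.smulPt A.act _ _
    rw [TorsVec.mul_smulPt, ← e1, h12, e2, h23, e1, h13, e3]
  let G₀ := matA (T := TorsVec.testObj j (B ⊗[R] B)) rfl g
  have hc' := congrArg (matA (T := TorsVec.testObj j (B ⊗[R] (B ⊗[R] B))) rfl) hcoc
  rw [matA_mul, matA_testMap, matA_testMap, matA_testMap] at hc'
  obtain ⟨f, P, hf, ⟨N, hdet⟩, hPc⟩ := exists_near G₀ (isUnit_matA _ g) hc' (hU.primeIdealOf ⟨y, hyU⟩)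
  -- pass to the localisation
  let R' := Localization.Away f
  let B' := R' ⊗[R] B
  let β : B →ₐ[R] B' := Algebra.TensorProduct.includeRight
  haveI : Module.FaithfullyFlat R' B' := inferInstance
  let ψ : B ⊗[R] B →ₐ[R] B' ⊗[R'] B' := Algebra.TensorProduct.lift
    (((Algebra.TensorProduct.includeLeft : B' →ₐ[R'] B' ⊗[R'] B').restrictScalars R).comp β)
    (((Algebra.TensorProduct.includeRight : B' →ₐ[R'] B' ⊗[R'] B').restrictScalars R).comp β)
    (fun x y => @Commute.all (B' ⊗[R'] B') (CommRing.toCommSemiring.toCommMonoid.toCommSemigroup.toCommMagma) _ _)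
  have hψL : ∀ b, ψ (TorsVec.insL (A := R) (B := B) b) = TorsVec.insL (A := R') (B := B') (β b) := fun b => by
    simp [ψ]
  have hψR : ∀ b, ψ (TorsVec.insR (A := R) (B := B) b) = TorsVec.insR (A := R') (B := B') (β b) := fun b => by
    simp [ψ]
  let jT' := Spec.map (CommRingCat.ofHom (algebraMap R R')) ≫ jT
  let j' := jT' ≫ A.base.hom
  have hbase : ∀ {C : Type u} [CommRing C] [Algebra R' C] {D : Type u} [CommRing D] [Algebra R D] (χ : D →+* C),
      χ.comp (algebraMap R D) = (algebraMap R' C).comp (algebraMap R R') →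
      Spec.map (CommRingCat.ofHom χ) ≫ Spec.map (CommRingCat.ofHom (algebraMap R D)) =
        Spec.map (CommRingCat.ofHom (algebraMap R' C)) ≫ Spec.map (CommRingCat.ofHom (algebraMap R R')) := by
    intro C _ _ D _ _ χ hχ
    rw [← Spec.map_comp, ← Spec.map_comp, ← CommRingCat.ofHom_comp, ← CommRingCat.ofHom_comp, hχ]
  have hβ : β.toRingHom.comp (algebraMap R B) = (algebraMap R' B').comp (algebraMap R R') :=
    β.comp_algebraMap.trans (IsScalarTower.algebraMap_eq R R' B')
  have hψ : ψ.toRingHom.comp (algebraMap R (B ⊗[R] B)) = (algebraMap R' (B' ⊗[R'] B')).comp (algebraMap R R') :=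
    ψ.comp_algebraMap.trans (IsScalarTower.algebraMap_eq R R' _)
  let m₁ : TorsVec.testObj j' B' ⟶ TorsVec.testObj j B := Over.homMk (Spec.map (CommRingCat.ofHom β.toRingHom)) (by
    simp only [Over.mk_hom, j, j', jT']
    rw [← Category.assoc, hbase β.toRingHom hβ]
    simp only [Category.assoc])
  let m₂ : TorsVec.testObj j' (B' ⊗[R'] B') ⟶ TorsVec.testObj j (B ⊗[R] B) :=
    Over.homMk (Spec.map (CommRingCat.ofHom ψ.toRingHom)) (by
      simp only [Over.mk_hom, j, j', jT']
      simp only [Category.assoc, ← Spec.map_comp_assoc, ← CommRingCat.ofHom_comp]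
      congr 3)
  let p' := m₁ ≫ p
  have hL : TorsVec.testMap j' (TorsVec.insL (A := R') (B := B')) ≫ p' = m₂ ≫ TorsVec.testMap j TorsVec.insL ≫ p := by
    rw [← Category.assoc, ← Category.assoc]
    congr 1
    ext1
    show Spec.map _ ≫ Spec.map _ = Spec.map _ ≫ Spec.map _
    rw [← Spec.map_comp, ← Spec.map_comp, ← CommRingCat.ofHom_comp, ← CommRingCat.ofHom_comp]
    exact congrArg (fun z => Spec.map (CommRingCat.ofHom z)) (RingHom.ext fun b => (hψL b).symm)
  have hR : TorsVec.testMap j' (TorsVec.insR (A := R') (B := B')) ≫ p' = m₂ ≫ TorsVec.testMap j TorsVec.insR ≫ p := by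
    rw [← Category.assoc, ← Category.assoc]
    congr 1
    ext1
    show Spec.map _ ≫ Spec.map _ = Spec.map _ ≫ Spec.map _
    rw [← Spec.map_comp, ← Spec.map_comp, ← CommRingCat.ofHom_comp, ← CommRingCat.ofHom_comp]
    exact congrArg (fun z => Spec.map (CommRingCat.ofHom z)) (RingHom.ext fun b => (hψR b).symm)
  have hg' : TorsVec.smulPt A.act (m₂ ≫ g) (TorsVec.testMap j' (TorsVec.insL (A := R') (B := B')) ≫ p') =
      TorsVec.testMap j' TorsVec.insR ≫ p' := by
    rw [hL, hR, ← TorsVec.comp_smulPt, hg]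
  have hG : matA (T := TorsVec.testObj j' (B' ⊗[R'] B')) rfl (m₂ ≫ g) = G₀.map ψ :=
    matA_comp (T := TorsVec.testObj j (B ⊗[R] B)) (T' := TorsVec.testObj j' (B' ⊗[R'] B')) rfl rfl m₂ ψ.toRingHom
      (by simp [m₂]) g
  let P' := P.map β
  have hP' : IsUnit P'.det := by
    have hu : IsUnit (β (algebraMap R B f) ^ N) := by
      rw [β.commutes, IsScalarTower.algebraMap_apply R R' B']
      exact ((IsLocalization.Away.algebraMap_isUnit f).map _).pow N
    rw [← map_pow] at hu
    have h := isUnit_of_dvd_unit (map_dvd β hdet) hu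
    rwa [AlgHom.map_det] at h
  have hPc' : G₀.map ψ * P'.map (TorsVec.insL (A := R') (B := B')) = P'.map (TorsVec.insR (A := R') (B := B')) := by
    have h := congrArg (fun M : Matrix (Fin n) (Fin n) (B ⊗[R] B) => M.map ψ) hPc
    simp only [Matrix.map_mul] at h
    rw [Matrix.map_map, Matrix.map_map] at h
    rw [show P'.map (TorsVec.insL (A := R') (B := B')) = P.map (ψ ∘ TorsVec.insL (A := R) (B := B)) from
      Matrix.ext fun a b => (hψL _).symm,
      show P'.map (TorsVec.insR (A := R') (B := B')) = P.map (ψ ∘ TorsVec.insR (A := R) (B := B)) from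
      Matrix.ext fun a b => (hψR _).symm]
    exact h
  obtain ⟨q, hq⟩ := exists_matA_eq (S := S) (T := TorsVec.testObj j' B') rfl P'⁻¹ (Matrix.isUnit_nonsing_inv_det P' hP')
  have heq : TorsVec.testMap j' (TorsVec.insL (A := R') (B := B')) ≫ TorsVec.smulPt A.act q p' =
      TorsVec.testMap j' TorsVec.insR ≫ TorsVec.smulPt A.act q p' := by
    rw [TorsVec.comp_smulPt, TorsVec.comp_smulPt, ← hg', ← TorsVec.mul_smulPt]
    congr 1
    refine matA_injective (T := TorsVec.testObj j' (B' ⊗[R'] B')) rfl ?_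
    rw [matA_mul, matA_testMap, matA_testMap, hq, hG]
    have h1 : ∀ φ : B' →ₐ[R'] B' ⊗[R'] B', (P'⁻¹).map φ * P'.map φ = 1 := fun φ => by
      exact map_mul_eq_one φ.toRingHom (Matrix.nonsing_inv_mul _ hP')
    have h2 : P'.map (TorsVec.insL (A := R') (B := B')) * (P'⁻¹).map (TorsVec.insL (A := R') (B := B')) = 1 := by
      exact map_mul_eq_one (TorsVec.insL (A := R') (B := B')).toRingHom (Matrix.mul_nonsing_inv _ hP')
    calc (P'⁻¹).map (TorsVec.insL (A := R') (B := B'))
        = ((P'⁻¹).map (TorsVec.insR (A := R') (B := B')) * P'.map (TorsVec.insR (A := R') (B := B'))) *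
            (P'⁻¹).map (TorsVec.insL (A := R') (B := B')) := by rw [h1, _root_.one_mul]
      _ = _ := by rw [← hPc', _root_.mul_assoc, _root_.mul_assoc, h2, _root_.mul_one]
  let p'' : TorsVec.testObj jT' B' ⟶ X' := Over.homMk (TorsVec.smulPt A.act q p').left (by
    show (TorsVec.smulPt A.act q p').left ≫ A.π.left = _
    rw [← Over.comp_left, ThetaBGa.smul_π]
    show (Spec.map (CommRingCat.ofHom β.toRingHom) ≫ p₀.left) ≫ A.π.left = Spec.map _ ≫ jT'
    rw [Category.assoc, hp₀, ← Category.assoc, hbase β.toRingHom hβ, Category.assoc])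
  obtain ⟨s, hs⟩ := TorsVec.exists_descend jT' p'' (Over.OverMorphism.ext
    (congrArg (fun m : TorsVec.testObj j' (B' ⊗[R'] B') ⟶ A.P => m.left) heq))
  haveI : IsOpenImmersion (Spec.map (CommRingCat.ofHom (algebraMap R R'))) := IsOpenImmersion.of_isLocalization f
  haveI : IsOpenImmersion jT := hU.isOpenImmersion_fromSpec
  refine ⟨_, jT', s, inferInstance, ?_, hs⟩
  have hmem : hU.primeIdealOf ⟨y, hyU⟩ ∈ Set.range (PrimeSpectrum.comap (algebraMap R R')) := by
    rw [PrimeSpectrum.localization_away_comap_range R' f]; exact hf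
  obtain ⟨z, hz⟩ := hmem
  refine ⟨z, ?_⟩
  show hU.fromSpec.base (PrimeSpectrum.comap (algebraMap R R') z) = y
  rw [hz]
  exact hU.fromSpec_primeIdealOf ⟨y, hyU⟩

end GLnSpecialLib
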